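import Cfsg.Agent.PG.PF8.Char
import Cfsg.Agent.PG.PF8.Part

/-! Peterfalvi (12.2)(a) and (12.6). -/

set_option autoImplicit false
set_option linter.unusedSectionVars false

open Pointwise Cfsg Cfsg.Lib.Solv
open scoped ComplexConjugate

namespace Cfsg.Lib.FT.PG

variable {G : Type*} [Group G] [Dl G] [Finite G] {L M : Subgroup G}

/-- Peterfalvi (12.2)(a). -/
theorem FTtype1_Dade (hG : Ctx G) (hL : Mx L) (h1 : FTtype L = 1) :
    Type1Dade L (fittingHallOf L) (FTsupp L) (supportR L) where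
  odd := mFT_odd hG L
  normal := Fcore_normal L
  dade := FT_Dade_hyp hG hL
  sharp_sub := Fcore_sub_FTsupp hG hL
  supp φ hφ x hx := by
    obtain ⟨hirr, -, hk⟩ := mem_IrrKerD.mp hφ
    by_cases hxL : x ∈ L
    · refine irr_reg_off_ker_0 (Fcore_normal L) hirr hk ?_
      by_contra hne
      obtain ⟨y, hy, hy1⟩ := trivgPn.mp hne
      refine hx (Or.inr ⟨by rwa [FTder_type1 h1], fun h => hx (Or.inl h), y, ?_, hy1,
        cent1C.mp hy.2⟩)
      rw [FTcore_type1 h1]
      exact hy.1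
    · exact cfun0 (irr_cf hirr) hxL
  free χ hχ φ hφ := by
    obtain ⟨θ, hθ, hθ1, rfl⟩ := seqIndC1P.mp hχ
    obtain ⟨U, hU⟩ := FTtype1_witness hG hL h1
    obtain ⟨U₁, hU₁⟩ := hU.typeF.inertia
    have hs := hU.typeF.sdprod.modr (le_inertia (irr_cf hθ))
    have hab : IsMulCommutative ↥(U ⊓ inertia θ) :=
      abelianS (typeF_inertia_le hU.typeF hU₁ hθ hθ1) hU₁.abelian
    have hco : (Nat.card (fittingHallOf L)).Coprime (Nat.card ↥(U ⊓ inertia θ)) :=
      coprimegS inf_le_left (hU.typeF.sdprod.isHallOf_left_iff.mp (Fcore_Hall L))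
    have h := (cfInd_Hall_central_Inertia (Fcore_normal L) hθ rfl (hs.der_le_left hab)
      (by rwa [hs.relIndex_left])).1
    rw [h]
    exact (orthoN_of_subset_Irr fun _ h => irrConstt_subset _ _ h).dot_sum_self hφ
  ti hne := by
    obtain ⟨U, hU⟩ := FTtype1_witness hG hL h1
    have h := (FTtypeI_II_facts hG hL (by omega)
      (by rw [FTder_type1 h1]; exact hU.typeF.sdprod)).2.2
    rw [FTsupp1_type1 h1] at h
    exact h hne

/-- Peterfalvi (12.2)(b): the induced characters are subcoherent for the Dade map of `A(L)`. -/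
theorem FTtype1_subcoherent (hG : Ctx G) (hL : Mx L) (h1 : FTtype L = 1) :
    ∃ R, Subcoherent L ⊤ (seqIndD (fittingHallOf L) L (fittingHallOf L) ⊥) (FTDade L) R :=
  (FTtype1_Dade hG hL h1).exists_subcoherent

/-- Peterfalvi (12.6). -/
theorem FT_Frobenius_coherence (hG : Ctx G) (hL : Mx L)
    (frobL : IsFrobKer L (fittingHallOf L)) :
    seqIndD (fittingHallOf L) L (fittingHallOf L) ⊥ ⊆ Irr L ∧
      Coherent L ⊤ (seqIndD (fittingHallOf L) L (fittingHallOf L) ⊥) {1}ᶜ (FTDade L) := by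
  refine ⟨seqInd_Frobenius_irr frobL, ?_⟩
  have h1 := FT_Frobenius_type1 hG hL frobL
  have nsHL := Fcore_normal L
  have nilH := Fcore_nil L
  obtain ⟨U, hU⟩ := FTtype1_witness hG hL h1
  obtain ⟨R, hR⟩ := FTtype1_subcoherent hG hL h1
  rcases hU.cases with tiH | ⟨abH, -⟩ | ⟨hexp, -⟩
  · rw [norm_mmax_Fcore hG hL] at tiH
    obtain ⟨τ₁, hc⟩ := Sibley_coherence_frob (mFT_odd hG L) nilH tiH frobL
    refine ⟨τ₁, hc.congr le_rfl fun φ hφ => ?_⟩
    exact (Dade_Ind_of_subset (FT_Dade_hyp hG hL) (Fcore_sub_FTsupp hG hL) tiH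
      (zcharD1_seqInd_on nsHL (seqIndD_subT _ _ _ _) hφ)).symm
  · refine uniform_degree_coherence hR fun φ hφ ψ hψ => ?_
    obtain ⟨θ, hθ, -, rfl⟩ := seqIndC1P.mp hφ
    obtain ⟨θ', hθ', -, rfl⟩ := seqIndC1P.mp hψ
    rw [ind_one nsHL.le, ind_one nsHL.le, (irr_lin_of_abelian abH hθ).one,
      (irr_lin_of_abelian abH hθ').one]
  · have nil : NilMod (fittingHallOf L) ⊥ := nilMod_of_nilpotent nilH ⊥
    rcases non_coherent_chief nsHL (nilpotent_sol nilH) hR
      (OddFrobQuot.of_frobKer (mFT_odd hG L) frobL (normal1 L) bot_le nil) with h | h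
    · exact h
    · obtain ⟨-, -, p, hp, ⟨n, hn⟩, -, hdvd⟩ := h
      refine absurd ?_ hdvd
      have frob := frobL.set_compl hU.typeF.sdprod
      have hZ : IsZGroup U := odd_regular_zgroup (mFT_odd hG U (hL.sub frob.compl_le)) frob.ker_ne frob.norm frob.regular
      rw [Subgroup.relIndex_bot_left] at hn
      have hn0 : n ≠ 0 := fun h => frob.ker_ne (trivg_card1.mpr (by rw [hn, h, pow_zero]))
      rw [hU.typeF.sdprod.relIndex_left, ← IsZGroup.exponent_eq_card]
      exact hexp p hp (hn ▸ dvd_pow_self p hn0)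

/-- Peterfalvi (12.6), for the Dade map of `L_F#`. -/
theorem FT_Frobenius_coherenceF (hG : Ctx G) (hL : Mx L)
    (frobL : IsFrobKer L (fittingHallOf L)) :
    Coherent L ⊤ (seqIndD (fittingHallOf L) L (fittingHallOf L) ⊥) {1}ᶜ (FTDadeF L) := by
  have h := (FT_Frobenius_coherence hG hL frobL).2
  rwa [FTDade, FTsupp_Frobenius hG hL frobL] at h

end Cfsg.Lib.FT.PG
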