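import Cfsg.Agent.PG.PF12.Witness
import Cfsg.Agent.PG.PF12.Frob

/-! Peterfalvi, Theorem (12.7): maximal subgroups of type I are Frobenius groups. -/

set_option autoImplicit false
set_option linter.unusedSectionVars false

open Pointwise Cfsg Cfsg.Lib.Solv

namespace Cfsg.Lib.FT.PG

variable {G : Type*} [Group G] [Dl G] [Finite G] {L M N P₀ : Subgroup G} {x g : G}

theorem FTtype1_support_disjoint (hG : Ctx G) (hL : Mx L) (hM : Mx M)
    (hL1 : FTtype L = 1) (hM1 : FTtype M = 1) (h : ¬ ConjIn ⊤ L M) :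
    Disjoint (DadeSupp (sharp (fittingHallOf L)) (supportR L))
      (DadeSupp (sharp (fittingHallOf M)) (supportR M)) := by
  have := FT_Dade1_support_disjoint hG hL hM h
  rwa [FTsupp1_type1 hL1, FTsupp1_type1 hM1] at this

theorem FTsupp_eq_FTsupp1_of_Frobenius (hG : Ctx G) (hN : Mx N)
    (h : IsFrobKer N (fittingHallOf N)) : FTsupp N = FTsupp1 N := by
  rw [FTsupp_Frobenius hG hN h, FTsupp1_type1 (FT_Frobenius_type1 hG hN h)]

theorem NonFrobWitness.false {p : ℕ} [hp : Fact p.Prime] (hG : Ctx G)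
    (w : NonFrobWitness p M L P₀ x g) (frobL : IsFrobKer L (fittingHallOf L)) : False := by
  have hL1 := w.L_type1 hG
  obtain ⟨hR, hs⟩ := w.support_facts hG
  have hle := w.inf_le hG frobL
  obtain ⟨V₀, hV₀⟩ := (compl_of_typeI hG w.maxM w.type1 hs).typeF.compl
  refine nonFrobenius_char_contra (mFT_odd hG L w.maxL.loc) frobL (nilpotent_sol (Fcore_nil L))
    (FT_DadeF_hyp hG w.maxL) (FT_Frobenius_coherenceF hG w.maxL frobL)
    (FTtype1_Dade hG w.maxM w.type1)
    (FTtype1_support_disjoint hG w.maxL w.maxM hL1 w.type1 ?_) (fun a ha => ?_) hp.out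
    (w.x_mem_sharp hG).1 w.order_x w.x_memM w.x_not_mem (hR ▸ inf_le_left) w.g_mem w.g_not_mem
    w.comm (w.index_le hG frobL) ?_ ?_
    (Frobenius_seven_mul_card_der_le hV₀.frob (mFT_odd hG _ (w.maxM.sub
      (sup_le (Fcore_sub M) (hV₀.le.trans inf_le_right)))) (nilpotent_sol (Fcore_nil M)))
  · rintro ⟨t, -, ht⟩
    refine w.p'K ?_
    rw [ht, FcoreJ, card_conj_smul]
    exact w.dvd_cardH hG
  · by_cases hC : 𝐂₁ a ≤ M
    · exact Or.inl (supportR_eq_bot hC)
    obtain ⟨-, N, hN, h1, -, -, -, ⟨h2, h2'⟩, h3, h4⟩ :=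
      FTsupport_facts hG w.maxM (Fcore_sub_FTsupp0 hG w.maxM ha) hC
    have hN1 : FTtype N = 1 := by
      have := (FTtype_range N).1
      by_contra h5
      exact w.not_Frobenius (h4 (by omega))
    refine Or.inr ⟨N, _, _, _, FTtype1_Dade hG hN.mmax hN1,
      FTtype1_support_disjoint hG w.maxL hN.mmax hL1 hN1 ?_, (FTsupp_sub N h2).1,
      fun h => h2' ?_, h1 ▸ inf_le_left⟩
    · rintro ⟨t, -, rfl⟩
      refine h2' ?_
      rwa [← FTsupp_eq_FTsupp1_of_Frobenius hG hN.mmax (by rw [FcoreJ]; exact frobL.conj t)]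
    · rw [FTsupp1_type1 hN1]
      exact ⟨h, ha.2⟩
  · rw [← card_pnElem w.elem]
    exact Nat.le_of_dvd Nat.card_pos (cardSg ((Ohm_sub p P₀).trans (w.P_le_H hG)))
  · rw [← hs.card]
    exact Nat.mul_le_mul_left _ (Nat.le_of_dvd Nat.card_pos (cardSg hle))

theorem FTtype1_rank_dvd (hG : Ctx G) (all1 : ∀ L : Subgroup G, Mx L → FTtype L = 1) (p : ℕ) :
    ∀ M : Subgroup G, p.Prime → Mx M → FTtype M = 1 → 1 < pRank p M →
      p ∣ Nat.card (fittingHallOf M) := by
  induction p using Nat.strong_induction_on with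
  | _ p IH =>
    intro M hp hM h1 hr
    have := Fact.mk hp
    by_contra p'K
    obtain ⟨L, P₀, x, g, w⟩ := non_Frobenius_FTtype1_witness hG all1 hM h1 hr p'K
    exact w.false hG (w.frobL hG fun q hq hq' h => IH q hq L hq' w.maxL (w.L_type1 hG) h)

/-- Peterfalvi, Theorem (12.7). -/
theorem FTtype1_Frobenius (hG : Ctx G) (all1 : ∀ L : Subgroup G, Mx L → FTtype L = 1)
    (hM : Mx M) : IsFrobKer M (fittingHallOf M) := by
  have h1 := all1 M hM
  obtain ⟨U, hU⟩ := FTtype1_witness hG hM h1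
  exact ⟨U, typeF_Frobenius_of_rank (mFT_odd hG M) hU.typeF
    fun q hq _ h => FTtype1_rank_dvd hG all1 q M hq hM h1 h⟩

end Cfsg.Lib.FT.PG
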