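import Cfsg.Agent.PG.PF11.A3

/-! Peterfalvi (12.8)-(12.12): the group-theoretic part of the proof of (12.7). -/

set_option autoImplicit false
set_option linter.unusedSectionVars false

open Pointwise Cfsg Cfsg.Lib.Solv

namespace Cfsg.Lib.FT.PG

variable {G : Type*} [Group G] [Dl G] [Finite G] {p : ℕ} {L M U U₀ P₀ W W₁ W₂ : Subgroup G} {x g : G}

/-- The configuration of Peterfalvi (12.8), (12.9). -/
structure NonFrobWitness (p : ℕ) (M L P₀ : Subgroup G) (x g : G) : Prop where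
  maxM : Mx M
  type1 : FTtype M = 1
  p'K : ¬ p ∣ Nat.card (fittingHallOf M)
  sylow : IsSylowOf p P₀ M
  elem : omegaOne p P₀ ∈ Elem p 2 P₀
  maxL : Mx L
  le_core : P₀ ≤ FTcore L
  x_mem : x ∈ omegaOne p P₀
  x_ne : x ≠ 1
  g_mem : g ∈ fittingHallOf M
  g_not_mem : g ∉ ⁅fittingHallOf M, fittingHallOf M⁆
  comm : x * g = g * x
  uniq : UniqMax (𝐂₁ x) M
  not_le : ¬ 𝐂₁ x ≤ L
  typeL : FTtype L = 1

variable [hp : Fact p.Prime]

/-- Peterfalvi (12.9). -/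
theorem non_Frobenius_FTtype1_witness (hG : Ctx G)
    (all1 : ∀ L : Subgroup G, Mx L → FTtype L = 1) (hM : Mx M) (h1 : FTtype M = 1) (hr : 1 < pRank p M) (p'K : ¬ p ∣ Nat.card (fittingHallOf M)) :
    ∃ (L P₀ : Subgroup G) (x g : G), NonFrobWitness p M L P₀ x g := by
  obtain ⟨U, hU⟩ := FTtype1_witness hG hM h1
  have hs := hU.typeF.sdprod
  obtain ⟨ha, hb, -⟩ := FTtypeI_II_facts hG hM (by omega) (by rw [FTder_type1 h1]; exact hs)
  obtain ⟨P₀, hP⟩ := Sylow_exists p U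
  have sylP : IsSylowOf p P₀ M :=
    pHall_trans hP hs.le_right ((p'natE hp.out).mpr (by rwa [hs.relIndex_right]))
  obtain ⟨abP, rP⟩ := ha p P₀ hp.out hP
  have hr2 : pRank p P₀ = 2 := by
    rw [rank_pgroup (Sylow_pgroup hP)] at rP
    have := p_rank_Sylow sylP
    omega
  have hE : omegaOne p P₀ ∈ Elem p 2 P₀ := hr2 ▸ Ohm1_pnElem_abelian abP
  have hpP : p ∣ Nat.card P₀ := pnElem_prime_dvd hE two_pos
  obtain ⟨L₀, hL₀, hd⟩ := FTcore_prime_exists hG hp.out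
    (dl_of_pRank hG hp.out hr hM.loc)
  obtain ⟨S, hS⟩ := Sylow_exists p (FTcore L₀)
  have hS' : IsSylowOf p S ⊤ :=
    subHall_Sylow (Hall_pi (FTcore_facts hG hL₀).2.1) (mem_piOf.mpr ⟨hp.out, hd⟩) hS
  obtain ⟨t, -, ht⟩ := Sylow_subJ hS' le_top (Sylow_pgroup hP)
  have hle : P₀ ≤ FTcore (t •ᶜ L₀) := by
    rw [FTcoreJ]
    exact ht.trans ((conjSg t).mpr (pHall_sub hS))
  have hEU : omegaOne p P₀ ≤ U := (Ohm_sub p P₀).trans (pHall_sub hP)
  have hlt := sol_der1_proper (nilpotent_sol (Fcore_nil M)) hU.typeF.H_ne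
  have hx : ¬ ∀ a ∈ omegaOne p P₀, a ≠ 1 →
      fittingHallOf M ⊓ 𝐂₁ a ≤ ⁅fittingHallOf M, fittingHallOf M⁆ := fun h =>
    hlt.not_ge (coprime_abelian_gen_cent1 (pnElem_abelian hE) (pnElem_not_cyclic hE le_rfl)
      (hEU.trans hs.norm) (coprimegS hEU (hs.isHallOf_left_iff.mp (Fcore_Hall M))) h)
  push Not at hx
  obtain ⟨x, hxE, hx1, hx⟩ := hx
  obtain ⟨g, hg, hg'⟩ := SetLike.not_le_iff_exists.mp hx
  have huniq : UniqMax (𝐂₁ x) M := by
    rw [← cent_zpowers]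
    refine hb _ (Subgroup.zpowers_le.mpr (hEU hxE)) (Subgroup.zpowers_ne_bot.mpr hx1) ?_
    rw [cent_zpowers]
    exact trivgPn.mpr ⟨g, hg, fun h => hg' (h ▸ one_mem _)⟩
  refine ⟨t •ᶜ L₀, P₀, x, g, hM, h1, p'K, sylP, hE, (mmaxJ t).mpr hL₀, hle, hxE, hx1, hg.1, hg',
    (mem_cent1.mp hg.2).symm, huniq, fun h => p'K ?_,
    all1 _ ((mmaxJ t).mpr hL₀)⟩
  rw [huniq.eq ((mmaxJ t).mpr hL₀) h, FTcore_type1 h1] at hle
  exact hpP.trans (cardSg hle)

namespace NonFrobWitness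

variable (hG : Ctx G) (w : NonFrobWitness p M L P₀ x g)
include w

theorem order_x : orderOf x = p := abelem_order_p (pnElem_abelem w.elem) w.x_mem w.x_ne

theorem x_memP : x ∈ P₀ := Ohm_sub p P₀ w.x_mem

theorem x_memM : x ∈ M := pHall_sub w.sylow w.x_memP

theorem x_not_mem : x ∉ fittingHallOf M := fun h => w.p'K (w.order_x ▸ order_dvdG h)

theorem dvd_cardP : p ∣ Nat.card P₀ := w.order_x ▸ order_dvdG w.x_memP

theorem g_ne : g ≠ 1 := fun h => w.g_not_mem (h ▸ one_mem _)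

theorem P_le : P₀ ≤ L := w.le_core.trans (FTcore_sub L)

theorem not_Frobenius : ¬ IsFrobKer M (fittingHallOf M) := fun h =>
  w.x_not_mem (h.cent1 w.g_mem w.g_ne ⟨w.x_memM, mem_cent1.mpr w.comm⟩)

include hG

theorem p_ne_two : p ≠ 2 := mFT_prime_ne_two hG w.dvd_cardP (w.maxM.sub (pHall_sub w.sylow))

theorem norm_le : 𝐍 (Subgroup.zpowers x) ≤ M :=
  sub_uniq_mmax w.uniq (cent1_le_norm_zpowers x)
    (mFT_norm_proper hG (Subgroup.zpowers_ne_bot.mpr w.x_ne)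
      (dg_zpowers (delt_of_order w.order_x hp.out
        (dl_of_elem hG hp.out (n := 0) w.elem (w.maxM.sub (pHall_sub w.sylow))))))

theorem L_type1 : FTtype L = 1 := w.typeL

theorem p_dl : p ∈ dl G :=
  dl_of_elem hG hp.out (n := 0) w.elem (w.maxM.sub (pHall_sub w.sylow))

theorem P_le_H : P₀ ≤ fittingHallOf L := by
  have := w.le_core
  rwa [FTcore_type1 (w.L_type1 hG)] at this

theorem dvd_cardH : p ∣ Nat.card (fittingHallOf L) := w.dvd_cardP.trans (cardSg (w.P_le_H hG))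

theorem x_mem_sharp : x ∈ sharp (fittingHallOf L) := ⟨w.P_le_H hG w.x_memP, w.x_ne⟩

/-- Peterfalvi (12.10). -/
theorem frobL (IH : ∀ q : ℕ, q < p → q.Prime → 1 < pRank q L → q ∣ Nat.card (fittingHallOf L)) :
    IsFrobKer L (fittingHallOf L) := by
  obtain ⟨V, hV⟩ := FTtype1_witness hG w.maxL (w.L_type1 hG)
  refine ⟨V, typeF_Frobenius_of_rank (mFT_odd hG L w.maxL.loc) hV.typeF fun q hq hd => IH q ?_ hq⟩
  rcases hV.cases with tiH | ⟨abH, rH⟩ | ⟨hexp, -⟩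
  · rw [norm_mmax_Fcore hG w.maxL] at tiH
    exact absurd (tiH.cent1_top (w.x_mem_sharp hG)) w.not_le
  · obtain ⟨V₀, hV₀⟩ := hV.typeF.compl
    have h1 := (hV₀.frob.regular.mono (Ohm_sub p _) le_rfl).card_dvd (norms_Ohm hV₀.frob.norm)
    have h2 := le_p_rank_of_pnElem (pnElemS (w.P_le_H hG) w.elem)
    have h3 := p_rank_le_rank p (fittingHallOf L)
    rw [card_Ohm1_abelian abH, show pRank p (fittingHallOf L) = 2 by omega] at h1
    exact (BG4.dvd_half_of_dvd_sq_sub_one hp.out (w.p_ne_two hG) hq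
      ((hV₀.prime_dvd hq hd).trans h1)).1
  · obtain ⟨y, hy, hyo⟩ := Cauchy hq hd
    have h1 : q ∣ Monoid.exponent V := by
      rw [← hyo, ← Subgroup.orderOf_mk y hy]
      exact Monoid.order_dvd_exponent _
    have h2 := hp.out.two_le
    have := Nat.le_of_dvd (by omega) (h1.trans (hexp p hp.out (w.dvd_cardH hG)))
    omega

/-- Peterfalvi (12.11), first part. -/
theorem support_facts : supportR L x = fittingHallOf M ⊓ 𝐂₁ x ∧
    SDProd (fittingHallOf M) (L ⊓ M) M := by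
  obtain ⟨-, N, hN, h1, h2, -⟩ :=
    FTsupport_facts hG w.maxL (Fcore_sub_FTsupp0 hG w.maxL (w.x_mem_sharp hG)) w.not_le
  rw [hN.unique w.uniq]
  exact ⟨h1, h2⟩

theorem pcore_inf : piCoreOf {p} (fittingHallOf L) ⊓ M = P₀ :=
  sub_Sylow w.sylow (isPGroupS inf_le_left (pcore_isPGroup p _))
    (le_inf (nilpotent_sub_pcore (Fcore_nil L) (w.P_le_H hG) (pHall_pgroup w.sylow))
      (pHall_sub w.sylow)) inf_le_right

/-- Peterfalvi (12.11), second part. -/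
theorem inf_le (frobL : IsFrobKer L (fittingHallOf L)) : L ⊓ M ≤ fittingHallOf L := by
  have hs := (w.support_facts hG).2
  have hV := (compl_of_typeI hG w.maxM w.type1 hs).typeF
  have hPV : P₀ ≤ L ⊓ M := le_inf w.P_le (pHall_sub w.sylow)
  have nPV : L ⊓ M ≤ 𝐍 P₀ := by
    rw [← w.pcore_inf hG]
    exact normsI (inf_le_left.trans (pcore_normal_trans _ (Fcore_normal L)).norm)
      (normsG inf_le_right)
  have coKV := hs.isHallOf_left_iff.mp (Fcore_Hall M)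
  rw [sub_normal_Hall (Hall_pi (Fcore_Hall L)) (Fcore_normal L).norm inf_le_left]
  intro r hr hd
  by_contra hrH
  obtain ⟨a, ha, hao⟩ := Cauchy hr hd
  obtain ⟨F, hF⟩ := frobL
  have hA : Subgroup.zpowers a ≤ L ⊓ M := Subgroup.zpowers_le.mpr ha
  have hcA : Nat.card (Subgroup.zpowers a) = r := by rw [Nat.card_zpowers, hao]
  have haH : a ∉ fittingHallOf L := fun h => hrH (mem_piOf.mpr ⟨hr, hao ▸ order_dvdG h⟩)
  have hCa := hF.cent1_of_not_mem ha.1 haH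
  by_cases hC : fittingHallOf M ⊓ 𝐂 (Subgroup.zpowers a) = ⊥
  · have hreg : Semiregular P₀ (Subgroup.zpowers a) := by
      refine Semiregular.of_prime (hcA ▸ hr) ?_
      rw [cent_zpowers, eq_bot_iff, ← hCa]
      exact inf_le_inf_right _ (w.P_le_H hG)
    have hcent := Frobenius_Wielandt_cent_compl (hA.trans nPV) hreg (nilpotent_sol (Fcore_nil M))
      (hPV.trans hs.norm) (hA.trans hs.norm) (coprimegS hPV coKV) (coprimegS hA coKV) hC
    obtain ⟨V₀, hV₀⟩ := hV.compl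
    obtain ⟨y, hy, hyo⟩ := Cauchy hp.out (hV₀.prime_dvd hp.out (w.dvd_cardP.trans (cardSg hPV)))
    have hyP : y ∈ P₀ := (mem_normal_Hall (pHall_subl hPV inf_le_right w.sylow) nPV
      (hV₀.le hy)).mpr ((p_elt_prime hyo hp.out).mpr rfl)
    have hy1 : y ≠ 1 := fun h => hp.out.one_lt.ne' (by rw [← hyo, h, orderOf_one])
    exact w.g_ne (hV₀.frob.regular.eq_one hy hy1 w.g_mem (mem_cent.mp (hcent hyP) g w.g_mem))
  · rw [cent_zpowers] at hC
    obtain ⟨y, hy, hy1⟩ := trivgPn.mp hC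
    obtain ⟨V₁, hV₁⟩ := hV.inertia
    have h1 : a ∈ V₁ := hV₁.cent y hy.1 hy1 ⟨ha, cent1C.mp hy.2⟩
    have h2 : x ∈ V₁ := hV₁.cent g w.g_mem w.g_ne ⟨hPV w.x_memP, mem_cent1.mpr w.comm⟩
    refine w.x_ne (Subgroup.mem_bot.mp ?_)
    rw [← hCa]
    exact ⟨(w.x_mem_sharp hG).1, mem_cent1.mpr (abelian_comm hV₁.abelian h2 h1)⟩

/-- Peterfalvi (12.12). -/
theorem index_le (frobL : IsFrobKer L (fittingHallOf L)) :
    2 * (fittingHallOf L).relIndex L ≤ p + 1 := by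
  have hle := w.inf_le hG frobL
  obtain ⟨F, hF⟩ := frobL
  set P := piCoreOf {p} (fittingHallOf L) with hP
  have pP : IsPGroup p P := pcore_isPGroup p _
  have hPP : P₀ ≤ P := by
    rw [← w.pcore_inf hG]
    exact inf_le_left
  have hP1 : P ≠ ⊥ := trivgPn.mpr ⟨x, hPP w.x_memP, w.x_ne⟩
  have hTP : omegaOne p (centerOf P) ≤ centerOf P := Ohm_sub _ _
  have hT1 : omegaOne p (centerOf P) ≠ ⊥ := by
    rw [Ne, Ohm1_eq1 (isPGroupS inf_le_left pP), center_nil_eq1 (pgroup_nil pP)]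
    exact hP1
  have hT : omegaOne p (centerOf P) ≤ omegaOne p P₀ := by
    refine abelem_le_Ohm1 (Ohm1_center_abelem p P) ?_
    rw [← w.pcore_inf hG]
    exact le_inf (hTP.trans inf_le_left)
      ((hTP.trans (inf_le_right.trans (cent_le_cent1 (hPP w.x_memP)))).trans w.uniq.le)
  rw [hF.sdprod.relIndex_left]
  refine pf12_compl_bound (w.p_ne_two hG) w.elem hT hT1 w.x_mem
    (hF.regular.mono (hTP.trans (inf_le_left.trans (pcore_sub _ _))) le_rfl)
    (norms_Ohm (norms_center (norms_pcore _ hF.norm))) (mFT_odd hG F (w.maxL.sub hF.compl_le)) ?_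
  rw [eq_bot_iff, ← hF.sdprod.inf]
  exact le_inf ((inf_le_inf hF.compl_le (w.norm_le hG)).trans hle) inf_le_left

end NonFrobWitness

end Cfsg.Lib.FT.PG
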